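import Cfsg.Agent.Lib.Involution.BaerSuzuki
import Cfsg.Agent.Lib.Transfer.Frobenius
import Cfsg.Agent.Lib.Ambivalent.RealCentral
import Cfsg.Prelude

/-!
Groups whose real 2-elements in a Sylow 2-subgroup are central there, and whose noncentral
real classes have one 2-part.
-/

set_option autoImplicit false

namespace Cfsg.Agent.RealTwoPart

open scoped Pointwise

variable {G : Type*} [Group G] [Finite G]

/-- If every element of `S` real in `S` is central in `S` and all involutions of `G` are central,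
then `G` has a normal 2-complement. -/
theorem complement_of_central_involutions (S : Sylow 2 G)
    (hS : ∀ s : ↥(S : Subgroup G), IsConj s s⁻¹ → s ∈ Subgroup.center ↥(S : Subgroup G))
    (hinv : ∀ i : G, i ^ 2 = 1 → i ∈ Subgroup.center G) :
    Cfsg.HasNormalPComplement 2 G := by
  refine Transfer.hasNormalPComplement_of_centralizer S fun Q hQ g hg hco => ?_
  have hodd : Odd (orderOf g) := Nat.coprime_two_right.mp hco
  suffices h : ∀ n : ℕ, ∀ v ∈ Q, orderOf v = n → g * v * g⁻¹ = v by
    rw [Subgroup.mem_centralizer_iff]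
    intro v hv
    exact ((mul_inv_eq_iff_eq_mul).mp (h _ v hv rfl)).symm
  intro n
  induction n using Nat.strong_induction_on with
  | _ n ih =>
    intro v hv hn
    rcases eq_or_ne v 1 with rfl | hv1
    · simp
    -- the square is fixed
    obtain ⟨k, hk⟩ := IsPGroup.iff_orderOf.mp (S.2.to_le hQ) ⟨v, hv⟩
    rw [Subgroup.orderOf_mk] at hk
    have hk0 : k ≠ 0 := by
      rintro rfl
      exact hv1 (orderOf_eq_one_iff.mp (by simpa using hk))
    have hlt : orderOf (v ^ 2) < n := by
      rw [orderOf_pow' v two_ne_zero, hk, ← hn, hk,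
        Nat.gcd_eq_right (dvd_pow_self 2 hk0)]
      exact Nat.div_lt_self (pow_pos (by norm_num) _) one_lt_two
    have h2 : g * v ^ 2 * g⁻¹ = v ^ 2 := ih _ hlt _ (Q.pow_mem hv 2) rfl
    set w := g * v * g⁻¹ with hw
    have hwQ : w ∈ Q := (Subgroup.mem_normalizer_iff.mp hg v).mp hv
    have hsq : w ^ 2 = v ^ 2 := by rw [hw, conj_pow]; exact h2
    set u := v⁻¹ * w with hu
    have huQ : u ∈ Q := Q.mul_mem (Q.inv_mem hv) hwQ
    have hflip : v * u * v⁻¹ = u⁻¹ := by
      calc v * u * v⁻¹ = w⁻¹ * (w ^ 2) * v⁻¹ := by rw [hu, pow_two]; group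
        _ = w⁻¹ * (v ^ 2) * v⁻¹ := by rw [hsq]
        _ = u⁻¹ := by rw [hu, pow_two]; group
    let u' : ↥(S : Subgroup G) := ⟨u, hQ huQ⟩
    let v' : ↥(S : Subgroup G) := ⟨v, hQ hv⟩
    have hc : u' ∈ Subgroup.center ↥(S : Subgroup G) :=
      hS u' (isConj_iff.mpr ⟨v', Subtype.ext hflip⟩)
    have hcomm : v * u = u * v := congrArg Subtype.val (Subgroup.mem_center_iff.mp hc v')
    have huu : u = u⁻¹ := by
      rw [← hflip, hcomm]; group
    have hu2 : u ^ 2 = 1 := by
      rw [pow_two]; exact mul_eq_one_iff_eq_inv.mpr huu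
    have hucen := Subgroup.mem_center_iff.mp (hinv u hu2)
    have hgv : g * v * g⁻¹ = v * u := by rw [hu, mul_inv_cancel_left]
    have hpow : ∀ j : ℕ, g ^ j * v * (g ^ j)⁻¹ = v * u ^ j := by
      intro j
      induction j with
      | zero => simp
      | succ j ihj =>
        have hguj : g * u ^ j * g⁻¹ = u ^ j := by
          rw [← conj_pow, hucen g, mul_inv_cancel_right]
        calc g ^ (j + 1) * v * (g ^ (j + 1))⁻¹
            = g * (g ^ j * v * (g ^ j)⁻¹) * g⁻¹ := by rw [pow_succ']; group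
          _ = (g * v * g⁻¹) * (g * u ^ j * g⁻¹) := by rw [ihj]; group
          _ = v * u ^ (j + 1) := by rw [hguj, hgv, pow_succ', mul_assoc]
    have h1 := hpow (orderOf g)
    rw [pow_orderOf_eq_one] at h1
    obtain ⟨m, hm⟩ := hodd
    rw [hm, pow_succ, pow_mul, hu2, one_pow, one_mul] at h1
    simp only [one_mul, inv_one, mul_one] at h1
    exact hgv.trans h1.symm

/-- A real element of odd order whose class has odd size is trivial. -/
theorem eq_one_of_odd_index {x : G} (hx : IsConj x x⁻¹) (hodd : Odd (orderOf x))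
    (hi : ¬ 2 ∣ (Subgroup.centralizer ({x} : Set G)).index) : x = 1 := by
  obtain ⟨T⟩ := (inferInstance : Nonempty (Sylow 2 ↥(Subgroup.centralizer ({x} : Set G))))
  set C := Subgroup.centralizer ({x} : Set G)
  let T0 : Subgroup G := (T : Subgroup ↥C).map C.subtype
  have hT0 : IsPGroup 2 T0 := T.2.map _
  obtain ⟨S, hS⟩ := hT0.exists_le_sylow
  have hind : ¬ 2 ∣ T0.index := by
    have : T0.index = (T : Subgroup ↥C).index * C.index := by
      rw [Subgroup.index_map, C.ker_subtype, C.range_subtype, sup_bot_eq]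
    rw [this, Nat.prime_two.dvd_mul]
    exact fun h => h.elim T.not_dvd_index hi
  have heq : T0 = (S : Subgroup G) := by
    refine hS.antisymm ?_
    rw [← Subgroup.relIndex_eq_one]
    obtain ⟨a, ha⟩ := IsPGroup.iff_card.mp S.2
    have h1 : T0.relIndex (S : Subgroup G) ∣ 2 ^ a := ha ▸ Subgroup.index_dvd_card _
    obtain ⟨b, -, hb⟩ := (Nat.dvd_prime_pow Nat.prime_two).mp h1
    rcases b.eq_zero_or_pos with rfl | hb0
    · simpa using hb
    · exact absurd (((dvd_pow_self 2 hb0.ne').trans (dvd_of_eq hb.symm)).trans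
        (Subgroup.relIndex_dvd_index_of_le hS)) hind
  have hxS : x ∈ Subgroup.centralizer ((S : Subgroup G) : Set G) := by
    rw [Subgroup.mem_centralizer_iff]
    intro s hs
    have hsC : s ∈ C := by
      have : s ∈ T0 := heq ▸ hs
      exact Subgroup.map_subtype_le _ this
    exact Subgroup.mem_centralizer_singleton_iff.mp hsC
  have h2 : orderOf x ∣ 2 := orderOf_dvd_of_pow_eq_one (RealCentral.sq_eq_one hx S hxS)
  rcases (Nat.dvd_prime Nat.prime_two).mp h2 with h | h
  · exact orderOf_eq_one_iff.mp h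
  · rw [h] at hodd
    exact absurd hodd (by decide)

/-- Two involutions generate a 2-group if no nontrivial element of odd order is real. -/
theorem isPGroup_pair (hno : ∀ x : G, IsConj x x⁻¹ → Odd (orderOf x) → x = 1) {a b : G}
    (ha : a * a = 1) (hb : b * b = 1) : IsPGroup 2 (Subgroup.closure ({a, b} : Set G)) := by
  obtain ⟨k, m, hm, hkm⟩ := Nat.exists_eq_two_pow_mul_odd (orderOf_pos (a * b)).ne'
  have hflip : IsConj ((a * b) ^ 2 ^ k) ((a * b) ^ 2 ^ k)⁻¹ := by
    refine isConj_iff.mpr ⟨a, ?_⟩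
    rw [← conj_pow, ← inv_pow, mul_inv_rev, inv_eq_of_mul_eq_one_right ha,
      inv_eq_of_mul_eq_one_right hb, ← mul_assoc a a b, ha, one_mul]
  have hord : orderOf ((a * b) ^ 2 ^ k) = m := by
    rw [orderOf_pow_of_dvd (by positivity) ⟨m, hkm⟩, hkm, Nat.mul_div_cancel_left _ (by positivity)]
  have h1 := hno _ hflip (hord ▸ hm)
  rw [h1, orderOf_one] at hord
  refine Involution.isPGroup_closure_pair ha hb (a := k) ?_
  exact orderOf_dvd_iff_pow_eq_one.mp (by rw [hkm, ← hord, mul_one])

/-- A group with no nontrivial real element of odd order has a normal Sylow 2-subgroup. -/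
theorem exists_normal_two_subgroup
    (hno : ∀ x : G, IsConj x x⁻¹ → Odd (orderOf x) → x = 1) :
    ∃ K : Subgroup G, K.Normal ∧ IsPGroup 2 K ∧ ¬ 2 ∣ K.index := by
  obtain ⟨K, -, hK⟩ := (Set.toFinite {K : Subgroup G | K.Normal ∧ IsPGroup 2 K}).exists_le_maximal
    (a := ⊥) ⟨inferInstance, IsPGroup.of_bot⟩
  have hKn : K.Normal := hK.1.1
  refine ⟨K, hK.1.1, hK.1.2, fun hdvd => ?_⟩
  rw [Subgroup.index_eq_card] at hdvd
  obtain ⟨i, hi⟩ := exists_prime_orderOf_dvd_card' 2 hdvd
  have hnoQ : ∀ x : G ⧸ K, IsConj x x⁻¹ → Odd (orderOf x) → x = 1 := by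
    by_contra hcon
    push Not at hcon
    obtain ⟨x, hxr, hxo, hx1⟩ := hcon
    obtain ⟨q, hq, hqd⟩ := Nat.exists_prime_and_dvd (fun h => hx1 (orderOf_eq_one_iff.mp h))
    haveI : Fact q.Prime := ⟨hq⟩
    have hq2 : q ≠ 2 := fun h => Nat.not_even_iff_odd.mpr hxo (even_iff_two_dvd.mpr (h ▸ hqd))
    set z := x ^ (orderOf x / q) with hz
    have hzo : orderOf z = q := orderOf_pow_orderOf_div (orderOf_pos x).ne' hqd
    obtain ⟨t, ht⟩ := isConj_iff.mp hxr
    have htz : t * z * t⁻¹ = z⁻¹ := by rw [hz, ← conj_pow, ht, inv_pow]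
    -- lift to the inverse image of the cyclic group
    let H : Subgroup G := (Subgroup.zpowers z).comap (QuotientGroup.mk' K)
    obtain ⟨a, hKcard⟩ := IsPGroup.iff_card.mp hK.1.2
    have hKq : ¬ q ∣ Nat.card K := fun h =>
      hq2 ((Nat.prime_dvd_prime_iff_eq hq Nat.prime_two).mp
        (hq.dvd_of_dvd_pow (hKcard ▸ h)))
    have hHcard : Nat.card H = q * Nat.card K := by
      have h1 : H.index = (Subgroup.zpowers z).index :=
        Subgroup.index_comap_of_surjective _ (QuotientGroup.mk'_surjective K)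
      have h2 := H.card_mul_index
      rw [h1, ← K.card_mul_index, K.index_eq_card, ← (Subgroup.zpowers z).card_mul_index,
        Nat.card_zpowers, hzo] at h2
      exact Nat.eq_of_mul_eq_mul_right
        (Nat.pos_of_ne_zero Subgroup.index_ne_zero_of_finite) (h2.trans (by ring))
    obtain ⟨y, hy⟩ := exists_prime_orderOf_dvd_card' q (hHcard ▸ dvd_mul_right q _)
    rw [← Subgroup.orderOf_coe] at hy
    obtain ⟨tG, rfl⟩ := QuotientGroup.mk'_surjective K t
    set π := QuotientGroup.mk' K
    have hyz : π y ∈ Subgroup.zpowers z := y.2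
    have hy1 : π y ≠ 1 := by
      intro h
      have hyK : (y : G) ∈ K := (QuotientGroup.eq_one_iff _).mp h
      exact hKq (hy ▸ (Subgroup.orderOf_mk (y : G) hyK ▸ orderOf_dvd_natCard (⟨(y : G), hyK⟩ : K)))
    have hw : tG * y * tG⁻¹ ∈ H := by
      show π (tG * y * tG⁻¹) ∈ Subgroup.zpowers z
      obtain ⟨j, hj⟩ := hyz
      rw [map_mul, map_mul, map_inv, ← hj, ← conj_zpow, htz]
      exact zpow_mem (inv_mem (Subgroup.mem_zpowers z)) j
    let w : H := ⟨_, hw⟩
    have hwo : orderOf w = q := by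
      rw [← Subgroup.orderOf_coe]
      show orderOf (tG * y * tG⁻¹) = q
      rw [← hy]; exact (orderOf_injective (MulAut.conj tG).toMonoidHom (MulEquiv.injective _) y)
    have hyo : orderOf y = q := by rw [← Subgroup.orderOf_coe]; exact hy
    have hfac : (Nat.card H).factorization q = 1 := by
      rw [hHcard, Nat.factorization_mul hq.ne_zero Nat.card_pos.ne', Finsupp.coe_add,
        Pi.add_apply, hq.factorization_self, Nat.factorization_eq_zero_of_not_dvd hKq]
    have hYcard : Nat.card (Subgroup.zpowers y) = q ^ (Nat.card H).factorization q := by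
      rw [Nat.card_zpowers, hyo, hfac, pow_one]
    have hWcard : Nat.card (Subgroup.zpowers w) = q ^ (Nat.card H).factorization q := by
      rw [Nat.card_zpowers, hwo, hfac, pow_one]
    obtain ⟨h, hh⟩ := MulAction.exists_smul_eq H (Sylow.ofCard _ hWcard) (Sylow.ofCard _ hYcard)
    have hmem : h * w * h⁻¹ ∈ Subgroup.zpowers y := by
      have h1 : MulAut.conj h • (Subgroup.zpowers w) = Subgroup.zpowers y := by
        have := congrArg (fun P : Sylow q H => (P : Subgroup H)) hh
        simpa [Sylow.coe_subgroup_smul] using this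
      rw [← h1]
      exact ⟨w, Subgroup.mem_zpowers w, rfl⟩
    obtain ⟨j, hj⟩ := hmem
    obtain ⟨i1, hi1⟩ := hyz
    obtain ⟨i2, hi2⟩ := (h.2 : π h ∈ Subgroup.zpowers z)
    have hjG : (y : G) ^ j = (h : G) * (tG * y * tG⁻¹) * (h : G)⁻¹ := by
      simpa using congrArg Subtype.val hj
    have hπ : π (y : G) ^ j = (π (y : G))⁻¹ := by
      rw [← map_zpow, hjG, map_mul, map_mul, map_mul, map_mul, map_inv, map_inv, ← hi1, ← hi2,
        ← conj_zpow, htz, inv_zpow]
      group
    have hyj : (y : G) ^ j = (y : G)⁻¹ := by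
      have hπy : orderOf (π (y : G)) = q := by
        refine orderOf_eq_prime ?_ hy1
        rw [← map_pow, ← hy, pow_orderOf_eq_one, map_one]
      have hd : (q : ℤ) ∣ j + 1 := by
        rw [← hπy, orderOf_dvd_iff_zpow_eq_one, zpow_add_one, hπ, inv_mul_cancel]
      rw [← mul_eq_one_iff_eq_inv, ← zpow_add_one, ← orderOf_dvd_iff_zpow_eq_one, hy]
      exact hd
    have hyreal : IsConj (y : G) (y : G)⁻¹ :=
      isConj_iff.mpr ⟨h * tG, by rw [← hyj, hjG]; group⟩
    have hy0 := hno _ hyreal (hy ▸ hq.odd_of_ne_two hq2)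
    rw [hy0, orderOf_one] at hy
    exact hq.one_lt.ne hy
  -- an involution of the quotient lies in a normal 2-subgroup
  have hii : i * i = 1 := by rw [← pow_two, ← hi, pow_orderOf_eq_one]
  have hP : IsPGroup 2 (Subgroup.normalClosure ({i} : Set (G ⧸ K))) := by
    refine Involution.baer_suzuki i fun g => isPGroup_pair hnoQ hii ?_
    rw [show g * i * g⁻¹ * (g * i * g⁻¹) = g * (i * i) * g⁻¹ by group, hii]; group
  let K' : Subgroup G := (Subgroup.normalClosure ({i} : Set (G ⧸ K))).comap (QuotientGroup.mk' K)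
  have hK'p : IsPGroup 2 K' :=
    hP.comap_of_ker_isPGroup _ (by rw [QuotientGroup.ker_mk']; exact hK.1.2)
  have hle : K ≤ K' := fun k hk => by
    have h : QuotientGroup.mk' K k = 1 := (QuotientGroup.eq_one_iff k).mpr hk
    rw [Subgroup.mem_comap, h]
    exact Subgroup.one_mem _
  have hK'K : K' ≤ K := hK.2 ⟨inferInstance, hK'p⟩ hle
  obtain ⟨g, rfl⟩ := QuotientGroup.mk'_surjective K i
  have : g ∈ K := hK'K (Subgroup.subset_normalClosure (Set.mem_singleton _))
  rw [show QuotientGroup.mk' K g = 1 from (QuotientGroup.eq_one_iff g).mpr this, orderOf_one] at hi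
  exact absurd hi (by norm_num)

end Cfsg.Agent.RealTwoPart
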